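import Cfsg.Agent.EqLemmas

/-!
The groups `Cfsg.qdOver F` (and `Cfsg.qd p`, which is the same for `F = ZMod p`).

Main results: `mem_qdOver`, `block` (the map onto `SL₂`), `tr` (translations), `emb` (the complement),
`decomp`, `mem_ker_block`, `pCore_eq_ker` (the translations are `O_p`), `upper` (a Sylow subgroup),
`normalizer_upper`, `eq_top_of_borel_le` (the Borel subgroup is maximal).
-/

set_option autoImplicit false

set_option linter.unusedSectionVars false

namespace Cfsg.Agent.QdOver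

open Matrix

variable {F : Type*} [Field F]

theorem qd_eq_qdOver (p : ℕ) [Fact p.Prime] : Cfsg.qd p = Cfsg.qdOver (ZMod p) := rfl

/-- The matrices with last row `(0, 0, 1)`. -/
def stab (F : Type*) [Field F] : Subgroup (SpecialLinearGroup (Fin 3) F) where
  carrier := {M | M.1 2 0 = 0 ∧ M.1 2 1 = 0 ∧ M.1 2 2 = 1}
  one_mem' := by simp
  mul_mem' := by
    rintro a b ⟨a0, a1, a2⟩ ⟨b0, b1, b2⟩
    simp [Matrix.mul_apply, Fin.sum_univ_three, a0, a1, a2, b0, b1, b2]
  inv_mem' := by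
    rintro a ⟨a0, a1, a2⟩
    have h : a.1 * (a⁻¹).1 = 1 := congrArg Subtype.val (mul_inv_cancel a)
    have e0 := congrFun (congrFun h 2) 0
    have e1 := congrFun (congrFun h 2) 1
    have e2 := congrFun (congrFun h 2) 2
    simp only [Matrix.mul_apply, Fin.sum_univ_three, a0, a1, a2, zero_mul, zero_add, one_mul,
      Matrix.one_apply] at e0 e1 e2
    exact ⟨e0.trans (if_neg (by decide)), e1.trans (if_neg (by decide)), e2.trans (by simp)⟩

theorem qdOver_eq_stab : Cfsg.qdOver F = stab F :=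
  le_antisymm ((Subgroup.closure_le _).2 fun _ h => h) fun _ h => Subgroup.subset_closure h

theorem mem_qdOver {M : SpecialLinearGroup (Fin 3) F} :
    M ∈ Cfsg.qdOver F ↔ M.1 2 0 = 0 ∧ M.1 2 1 = 0 ∧ M.1 2 2 = 1 := by
  rw [qdOver_eq_stab]; rfl

/-- The entries of an element. -/
abbrev ent (M : Cfsg.qdOver F) (i j : Fin 3) : F :=
  ((M : SpecialLinearGroup (Fin 3) F) : Matrix (Fin 3) (Fin 3) F) i j

@[simp] theorem ent_mk (A : Matrix (Fin 3) (Fin 3) F) (h : A.det = 1)
    (h' : (⟨A, h⟩ : SpecialLinearGroup (Fin 3) F) ∈ Cfsg.qdOver F) (i j : Fin 3) :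
    ent ⟨⟨A, h⟩, h'⟩ i j = A i j := rfl

theorem ent_last (M : Cfsg.qdOver F) : ent M 2 0 = 0 ∧ ent M 2 1 = 0 ∧ ent M 2 2 = 1 :=
  mem_qdOver.1 M.2

theorem ext_ent {M N : Cfsg.qdOver F} (h00 : ent M 0 0 = ent N 0 0) (h01 : ent M 0 1 = ent N 0 1)
    (h02 : ent M 0 2 = ent N 0 2) (h10 : ent M 1 0 = ent N 1 0) (h11 : ent M 1 1 = ent N 1 1)
    (h12 : ent M 1 2 = ent N 1 2) : M = N := by
  obtain ⟨m0, m1, m2⟩ := ent_last M
  obtain ⟨n0, n1, n2⟩ := ent_last N
  refine Subtype.ext (Subtype.ext (Matrix.ext fun i j => ?_))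
  fin_cases i <;> fin_cases j
  exacts [h00, h01, h02, h10, h11, h12, m0.trans n0.symm, m1.trans n1.symm, m2.trans n2.symm]

theorem ent_mul (M N : Cfsg.qdOver F) (i j : Fin 3) :
    ent (M * N) i j = ent M i 0 * ent N 0 j + ent M i 1 * ent N 1 j + ent M i 2 * ent N 2 j := by
  show ((M.1.1 * N.1.1 : Matrix (Fin 3) (Fin 3) F)) i j = _
  rw [Matrix.mul_apply, Fin.sum_univ_three]

theorem ent_one (i j : Fin 3) : ent (1 : Cfsg.qdOver F) i j = if i = j then 1 else 0 :=
  Matrix.one_apply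

/-- The action on the plane: the upper left block. -/
def block : Cfsg.qdOver F →* SpecialLinearGroup (Fin 2) F where
  toFun M := ⟨!![ent M 0 0, ent M 0 1; ent M 1 0, ent M 1 1], by
    have hd : M.1.1.det = 1 := M.1.2
    obtain ⟨h0, h1, h2⟩ := ent_last M
    simp only [ent] at h0 h1 h2 ⊢
    rw [Matrix.det_fin_three, h0, h1, h2] at hd
    rw [Matrix.det_fin_two_of]
    linear_combination hd⟩
  map_one' := Subtype.ext (by simp [ent_one, ← Matrix.one_fin_two])
  map_mul' M N := Subtype.ext (by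
    obtain ⟨h0, h1, -⟩ := ent_last N
    show !![ent (M * N) 0 0, ent (M * N) 0 1; ent (M * N) 1 0, ent (M * N) 1 1] =
      !![ent M 0 0, ent M 0 1; ent M 1 0, ent M 1 1] * !![ent N 0 0, ent N 0 1; ent N 1 0, ent N 1 1]
    simp [ent_mul, h0, h1, Matrix.mul_fin_two])

theorem block_apply (M : Cfsg.qdOver F) :
    (block M).1 = !![ent M 0 0, ent M 0 1; ent M 1 0, ent M 1 1] := rfl

theorem mem_ker_block {M : Cfsg.qdOver F} : M ∈ block.ker ↔
    ent M 0 0 = 1 ∧ ent M 0 1 = 0 ∧ ent M 1 0 = 0 ∧ ent M 1 1 = 1 := by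
  rw [MonoidHom.mem_ker]
  constructor
  · intro h
    have h' : (block M).1 = 1 := congrArg Subtype.val h
    rw [block_apply, Matrix.one_fin_two] at h'
    exact ⟨congrFun (congrFun h' 0) 0, congrFun (congrFun h' 0) 1, congrFun (congrFun h' 1) 0,
      congrFun (congrFun h' 1) 1⟩
  · rintro ⟨h00, h01, h10, h11⟩
    refine Subtype.ext ?_
    rw [block_apply, h00, h01, h10, h11]
    exact Matrix.one_fin_two.symm

/-- The translation by `(a, b)`. -/
def tr (a b : F) : Cfsg.qdOver F :=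
  ⟨⟨!![1, 0, a; 0, 1, b; 0, 0, 1], by simp [Matrix.det_fin_three]⟩, mem_qdOver.2 ⟨rfl, rfl, rfl⟩⟩

theorem tr_mul (a b c d : F) : tr a b * tr c d = tr (a + c) (b + d) := by
  apply ext_ent <;> simp [ent_mul, tr, add_comm]

theorem tr_zero : tr (0 : F) 0 = 1 := by
  apply ext_ent <;> simp [ent_one, tr]

theorem tr_pow (a b : F) (n : ℕ) : tr a b ^ n = tr ((n : F) * a) ((n : F) * b) := by
  induction n with
  | zero => rw [pow_zero, Nat.cast_zero, zero_mul, zero_mul, tr_zero]
  | succ n ih => rw [pow_succ, ih, tr_mul]; simp [add_mul]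

theorem block_tr (a b : F) : block (tr a b) = 1 :=
  MonoidHom.mem_ker.1 (mem_ker_block.2 ⟨rfl, rfl, rfl, rfl⟩)

theorem eq_tr {M : Cfsg.qdOver F} (h : M ∈ block.ker) : M = tr (ent M 0 2) (ent M 1 2) := by
  obtain ⟨h00, h01, h10, h11⟩ := mem_ker_block.1 h
  apply ext_ent <;> simp [tr, h00, h01, h10, h11]

/-- The block diagonal complement. -/
def emb : SpecialLinearGroup (Fin 2) F →* Cfsg.qdOver F where
  toFun g := ⟨⟨!![g.1 0 0, g.1 0 1, 0; g.1 1 0, g.1 1 1, 0; 0, 0, 1], by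
    have hd : g.1.det = 1 := g.2
    rw [Matrix.det_fin_two] at hd
    simp [Matrix.det_fin_three]
    linear_combination hd⟩, mem_qdOver.2 ⟨rfl, rfl, rfl⟩⟩
  map_one' := by apply ext_ent <;> simp [ent_one]
  map_mul' g h := by apply ext_ent <;> simp [ent_mul, Matrix.mul_apply, Fin.sum_univ_two]

theorem block_emb (g : SpecialLinearGroup (Fin 2) F) : block (emb g) = g :=
  Subtype.ext (Matrix.eta_fin_two g.1).symm

theorem decomp (M : Cfsg.qdOver F) : M = tr (ent M 0 2) (ent M 1 2) * emb (block M) := by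
  obtain ⟨h0, h1, h2⟩ := ent_last M
  apply ext_ent <;> simp [ent_mul, tr, emb, block_apply]

theorem emb_conj_tr (g : SpecialLinearGroup (Fin 2) F) (a b : F) :
    emb g * tr a b * (emb g)⁻¹ = tr (g.1 0 0 * a + g.1 0 1 * b) (g.1 1 0 * a + g.1 1 1 * b) := by
  rw [mul_inv_eq_iff_eq_mul]
  apply ext_ent <;> simp [ent_mul, tr, emb]

/-- Upper unitriangular element of `SL₂`. -/
def up (x : F) : SpecialLinearGroup (Fin 2) F := ⟨!![1, x; 0, 1], by simp [Matrix.det_fin_two]⟩

/-- Lower unitriangular element of `SL₂`. -/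
def low (x : F) : SpecialLinearGroup (Fin 2) F := ⟨!![1, 0; x, 1], by simp [Matrix.det_fin_two]⟩

/-- An `SL₂`-invariant set of vectors fixed by all elements of `N` forces `N` trivial. -/
theorem eq_bot_of_fixed {N : Subgroup (SpecialLinearGroup (Fin 2) F)} (hn : N.Normal) {v : Fin 2 → F}
    (hv : v ≠ 0) (hfix : ∀ g ∈ N, g.1 *ᵥ v = v) : N = ⊥ := by
  rw [Subgroup.eq_bot_iff_forall]
  intro g hg
  have key : ∀ h : SpecialLinearGroup (Fin 2) F, g.1 *ᵥ (h.1 *ᵥ v) = h.1 *ᵥ v := by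
    intro h
    have h1 := hfix _ (hn.conj_mem g hg h⁻¹)
    rw [inv_inv] at h1
    have h2 : h.1 *ᵥ ((h⁻¹ * g * h).1 *ᵥ v) = h.1 *ᵥ v := by rw [h1]
    rwa [Matrix.mulVec_mulVec, ← Matrix.SpecialLinearGroup.coe_mul, mul_assoc, mul_inv_cancel_left,
      Matrix.SpecialLinearGroup.coe_mul, ← Matrix.mulVec_mulVec] at h2
  have a0 : g.1 0 0 * v 0 + g.1 0 1 * v 1 = v 0 := by
    simpa [Matrix.mulVec, dotProduct, Fin.sum_univ_two] using congrFun (hfix g hg) 0
  have a1 : g.1 1 0 * v 0 + g.1 1 1 * v 1 = v 1 := by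
    simpa [Matrix.mulVec, dotProduct, Fin.sum_univ_two] using congrFun (hfix g hg) 1
  have b0 : g.1 0 0 * (v 0 + v 1) + g.1 0 1 * v 1 = v 0 + v 1 := by
    simpa [up, Matrix.mulVec, dotProduct, Fin.sum_univ_two] using congrFun (key (up 1)) 0
  have b1 : g.1 1 0 * (v 0 + v 1) + g.1 1 1 * v 1 = v 1 := by
    simpa [up, Matrix.mulVec, dotProduct, Fin.sum_univ_two] using congrFun (key (up 1)) 1
  have c0 : g.1 0 0 * v 0 + g.1 0 1 * (v 0 + v 1) = v 0 := by
    simpa [low, Matrix.mulVec, dotProduct, Fin.sum_univ_two] using congrFun (key (low 1)) 0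
  have c1 : g.1 1 0 * v 0 + g.1 1 1 * (v 0 + v 1) = v 0 + v 1 := by
    simpa [low, Matrix.mulVec, dotProduct, Fin.sum_univ_two] using congrFun (key (low 1)) 1
  have hx : g.1 = 1 := by
    rw [Matrix.eta_fin_two g.1, Matrix.one_fin_two]
    rcases eq_or_ne (v 1) 0 with h1 | h1
    · have h0 : v 0 ≠ 0 := fun h0 => hv (funext fun i => by fin_cases i <;> assumption)
      have e01 : g.1 0 1 = 0 := mul_right_cancel₀ h0 (by linear_combination c0 - a0)
      have e11 : g.1 1 1 = 1 := mul_right_cancel₀ h0 (by linear_combination c1 - a1)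
      have e00 : g.1 0 0 = 1 := mul_right_cancel₀ h0 (by linear_combination a0 - g.1 0 1 * h1)
      have e10 : g.1 1 0 = 0 := mul_right_cancel₀ h0 (by linear_combination a1 - (g.1 1 1 - 1) * h1)
      rw [e00, e01, e10, e11]
    · have e00 : g.1 0 0 = 1 := mul_right_cancel₀ h1 (by linear_combination b0 - a0)
      have e10 : g.1 1 0 = 0 := mul_right_cancel₀ h1 (by linear_combination b1 - a1)
      have e01 : g.1 0 1 = 0 := mul_right_cancel₀ h1 (by linear_combination a0 - v 0 * e00)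
      have e11 : g.1 1 1 = 1 := mul_right_cancel₀ h1 (by linear_combination a1 - v 0 * e10)
      rw [e00, e01, e10, e11]
  exact Subtype.ext hx

section Finite

variable [Fintype F] {p : ℕ} [Fact p.Prime] [CharP F p]

/-- A `p`-group in `SL₂` fixes a nonzero vector. -/
theorem exists_fixed_vector {N : Subgroup (SpecialLinearGroup (Fin 2) F)} (hN : IsPGroup p N) :
    ∃ v : Fin 2 → F, v ≠ 0 ∧ ∀ g ∈ N, g.1 *ᵥ v = v := by
  let act : MulAction N (Fin 2 → F) :=
    { smul := fun g v => g.1.1 *ᵥ v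
      one_smul := fun v => Matrix.one_mulVec v
      mul_smul := fun g h v => (Matrix.mulVec_mulVec v g.1.1 h.1.1).symm }
  have hdvd : p ∣ Nat.card (Fin 2 → F) := by
    obtain ⟨n, -, hn⟩ := FiniteField.card F p
    rw [Nat.card_fun, Nat.card_eq_fintype_card, Nat.card_eq_fintype_card, hn, Fintype.card_fin,
      ← pow_mul]
    exact dvd_pow_self p (mul_ne_zero n.ne_zero two_ne_zero)
  have h0 : (0 : Fin 2 → F) ∈ MulAction.fixedPoints N (Fin 2 → F) := fun g => Matrix.mulVec_zero _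
  obtain ⟨v, hv, hv0⟩ := hN.exists_fixed_point_of_prime_dvd_card_of_fixed_point (Fin 2 → F) hdvd h0
  exact ⟨v, fun h => hv0 h.symm, fun g hg => hv ⟨g, hg⟩⟩

theorem ker_block_isPGroup : IsPGroup p (block (F := F)).ker := by
  intro M
  refine ⟨1, Subtype.ext ?_⟩
  rw [pow_one, SubmonoidClass.coe_pow, eq_tr M.2, tr_pow, CharP.cast_eq_zero, zero_mul, zero_mul,
    tr_zero]
  rfl

theorem block_surjective : Function.Surjective (block (F := F)) := fun g => ⟨emb g, block_emb g⟩

/-- `O_p(Qd)` is the translation subgroup. -/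
theorem pCore_eq_ker : Cfsg.pCore p ↥(Cfsg.qdOver F) = block.ker := by
  refine le_antisymm (sSup_le fun N hN => ?_) (le_sSup ⟨inferInstance, ker_block_isPGroup⟩)
  obtain ⟨v, hv, hfix⟩ := exists_fixed_vector (hN.2.map block)
  have hbot := eq_bot_of_fixed (hN.1.map _ block_surjective) hv hfix
  exact fun x hx => MonoidHom.mem_ker.2 (Subgroup.mem_bot.1 (hbot ▸ Subgroup.mem_map_of_mem _ hx))

/-- The upper unitriangular subgroup. -/
def upper (F : Type*) [Field F] : Subgroup (Cfsg.qdOver F) where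
  carrier := {M | ent M 0 0 = 1 ∧ ent M 1 0 = 0 ∧ ent M 1 1 = 1}
  one_mem' := by simp [ent_one]
  mul_mem' := by
    rintro a b ⟨a0, a1, a2⟩ ⟨b0, b1, b2⟩
    obtain ⟨c0, c1, -⟩ := ent_last b
    simp [ent_mul, a0, a1, a2, b0, b1, b2, c0, c1]
  inv_mem' := by
    rintro a ⟨a0, a1, a2⟩
    obtain ⟨c0, c1, -⟩ := ent_last a
    obtain ⟨d0, d1, -⟩ := ent_last a⁻¹
    have e := congrArg (fun M : Cfsg.qdOver F => ent M 1 0) (mul_inv_cancel a)
    have e' := congrArg (fun M : Cfsg.qdOver F => ent M 0 0) (mul_inv_cancel a)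
    have e'' := congrArg (fun M : Cfsg.qdOver F => ent M 1 1) (mul_inv_cancel a)
    rw [ent_mul] at e e' e''
    simp [ent_one, a0, a1, a2, c0, c1, d0, d1] at e e' e''
    refine ⟨?_, e, e''⟩
    rwa [e, mul_zero, add_zero] at e'

theorem upper_isPGroup : IsPGroup p (upper F) := by
  intro M
  refine ⟨2, ?_⟩
  obtain ⟨h00, h10, h11⟩ := M.2
  have hpow : ∀ n : ℕ, ent ((M : Cfsg.qdOver F) ^ n) 0 1 = (n : F) * ent (M : Cfsg.qdOver F) 0 1 := by
    intro n
    induction n with
    | zero => simp [ent_one]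
    | succ n ih =>
      obtain ⟨g00, -, -⟩ := (upper F).pow_mem M.2 n
      obtain ⟨-, c1, -⟩ := ent_last (M : Cfsg.qdOver F)
      rw [pow_succ, ent_mul, ih, g00, h11, c1]; push_cast; ring
  have hk : ((M : Cfsg.qdOver F) ^ p) ∈ block.ker := by
    obtain ⟨g00, g10, g11⟩ := (upper F).pow_mem M.2 p
    exact mem_ker_block.2 ⟨g00, by rw [hpow, CharP.cast_eq_zero, zero_mul], g10, g11⟩
  refine Subtype.ext ?_
  rw [SubmonoidClass.coe_pow, pow_two, pow_mul, eq_tr hk, tr_pow, CharP.cast_eq_zero, zero_mul,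
    zero_mul, tr_zero]
  rfl

theorem ker_le_upper : (block (F := F)).ker ≤ upper F := fun M hM => by
  obtain ⟨h00, -, h10, h11⟩ := mem_ker_block.1 hM
  exact ⟨h00, h10, h11⟩

theorem emb_up_mem (x : F) : emb (up x) ∈ upper F := ⟨rfl, rfl, rfl⟩

/-- The upper unitriangular subgroup as a Sylow subgroup. -/
def upperSylow : Sylow p ↥(Cfsg.qdOver F) where
  toSubgroup := upper F
  isPGroup' := upper_isPGroup
  is_maximal' := by
    intro Q hQ hle
    refine le_antisymm (fun M hM => ?_) hle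
    obtain ⟨v, hv, hfix⟩ := exists_fixed_vector (hQ.map block)
    have h1 := congrFun (hfix _ (Subgroup.mem_map_of_mem _ (hle (emb_up_mem (1 : F))))) 0
    rw [block_emb] at h1
    simp [up, Matrix.mulVec, dotProduct, Fin.sum_univ_two] at h1
    have hv0 : v 0 ≠ 0 := fun h0 => hv (funext fun i => by fin_cases i <;> assumption)
    have h2 := congrFun (hfix _ (Subgroup.mem_map_of_mem _ hM)) 0
    have h3 := congrFun (hfix _ (Subgroup.mem_map_of_mem _ hM)) 1
    simp [block_apply, Matrix.mulVec, dotProduct, Fin.sum_univ_two, h1] at h2 h3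
    have e00 : ent M 0 0 = 1 := mul_right_cancel₀ hv0 (by linear_combination h2)
    have e10 : ent M 1 0 = 0 := mul_right_cancel₀ hv0 (by
      rcases h3 with h3 | h3 <;> simp [h3, hv0] at *)
    have hd : (block M).1.det = 1 := (block M).2
    rw [block_apply, Matrix.det_fin_two_of, e00, e10, one_mul, mul_zero, sub_zero] at hd
    exact ⟨e00, e10, hd⟩

theorem mem_normalizer_upper {M : Cfsg.qdOver F} :
    M ∈ Subgroup.normalizer (upper F : Set (Cfsg.qdOver F)) ↔ ent M 1 0 = 0 := by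
  have hdet : ∀ M : Cfsg.qdOver F, ent M 0 0 * ent M 1 1 - ent M 0 1 * ent M 1 0 = 1 := fun M => by
    have hd : (block M).1.det = 1 := (block M).2
    rwa [block_apply, Matrix.det_fin_two_of] at hd
  constructor
  · intro h
    have h1 := Subgroup.le_normalizer_iff.1 le_rfl M h _ (emb_up_mem (1 : F))
    set N := M * emb (up 1) * M⁻¹ with hN
    have h2 : ent (N * M) 1 0 = ent (M * emb (up 1)) 1 0 := by rw [hN, inv_mul_cancel_right]
    have h3 : ent (N * M) 1 1 = ent (M * emb (up 1)) 1 1 := by rw [hN, inv_mul_cancel_right]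
    obtain ⟨n00, n10, n11⟩ := h1
    obtain ⟨c0, c1, -⟩ := ent_last M
    simp [ent_mul, n10, n11, c1, emb, up] at h3
    exact h3
  · intro hM
    have key : ∀ M : Cfsg.qdOver F, ent M 1 0 = 0 → ∀ x ∈ upper F, M * x * M⁻¹ ∈ upper F := by
      intro M hM x hx
      obtain ⟨x00, x10, x11⟩ := hx
      set N := M * x * M⁻¹ with hN
      have hNM : N * M = M * x := inv_mul_cancel_right _ _
      have d := hdet M
      rw [hM, mul_zero, sub_zero] at d
      obtain ⟨c0, c1, -⟩ := ent_last M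
      obtain ⟨y0, y1, -⟩ := ent_last x
      have q00 := congrArg (fun W : Cfsg.qdOver F => ent W 0 0) hNM
      have q10 := congrArg (fun W : Cfsg.qdOver F => ent W 1 0) hNM
      have q11 := congrArg (fun W : Cfsg.qdOver F => ent W 1 1) hNM
      simp [ent_mul, hM, x00, x10, x11, c0, c1, y0, y1] at q00 q10 q11
      have ha : ent M 0 0 ≠ 0 := left_ne_zero_of_mul_eq_one d
      have hd' : ent M 1 1 ≠ 0 := right_ne_zero_of_mul_eq_one d
      have n00 : ent N 0 0 = 1 := mul_right_cancel₀ ha (by rw [q00, one_mul])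
      have n10 : ent N 1 0 = 0 := mul_right_cancel₀ ha (by rcases q10 with q | q <;> simp [q] at *)
      rw [n10, zero_mul, zero_add] at q11
      exact ⟨n00, n10, mul_right_cancel₀ hd' (by rw [q11, one_mul])⟩
    have hinv : ent M⁻¹ 1 0 = 0 := by
      have e := congrArg (fun W : Cfsg.qdOver F => ent W 1 0) (inv_mul_cancel M)
      obtain ⟨c0, -, -⟩ := ent_last M
      have d := hdet M
      rw [hM, mul_zero, sub_zero] at d
      rw [ent_mul] at e
      simp [ent_one, hM, c0, left_ne_zero_of_mul_eq_one d] at e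
      exact e
    rw [Subgroup.mem_normalizer_iff]
    exact fun x => ⟨key M hM x, fun hx => by
      have h := key _ hinv _ hx
      simpa [mul_assoc] using h⟩

/-- A subgroup containing the Borel subgroup and something outside it is everything. -/
theorem eq_top_of_borel_le {X : Subgroup (Cfsg.qdOver F)}
    (hB : ∀ M, ent M 1 0 = 0 → M ∈ X) {g : Cfsg.qdOver F} (hg : g ∈ X) (hg0 : ent g 1 0 ≠ 0) :
    X = ⊤ := by
  have hker : block.ker ≤ X := fun M hM => hB M (mem_ker_block.1 hM).2.2.1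
  have hBX : ∀ h : SpecialLinearGroup (Fin 2) F, h.1 1 0 = 0 → h ∈ X.map block := fun h hh =>
    ⟨emb h, hB _ hh, block_emb h⟩
  -- every matrix with non-zero lower left entry is `b * w * b'`
  let w : SpecialLinearGroup (Fin 2) F := ⟨!![0, -1; 1, 0], by simp [Matrix.det_fin_two]⟩
  have bruhat : ∀ h : SpecialLinearGroup (Fin 2) F, h.1 1 0 ≠ 0 →
      ∃ b b' : SpecialLinearGroup (Fin 2) F, b.1 1 0 = 0 ∧ b'.1 1 0 = 0 ∧ h = b * w * b' := by
    intro h hc
    refine ⟨up (h.1 0 0 / h.1 1 0), ⟨!![h.1 1 0, h.1 1 1; 0, 1 / h.1 1 0], ?_⟩, rfl, rfl, ?_⟩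
    · simp [Matrix.det_fin_two, hc]
    · have hd : h.1.det = 1 := h.2
      rw [Matrix.det_fin_two] at hd
      refine Subtype.ext ?_
      show h.1 = (!![1, h.1 0 0 / h.1 1 0; 0, 1] * !![0, -1; 1, 0] *
        !![h.1 1 0, h.1 1 1; 0, 1 / h.1 1 0] : Matrix (Fin 2) (Fin 2) F)
      ext i j
      fin_cases i <;> fin_cases j <;> simp [Matrix.mul_apply, Fin.sum_univ_two] <;> field_simp
      linear_combination -hd
  have hw : w ∈ X.map block := by
    obtain ⟨b, b', hb, hb', he⟩ := bruhat (block g) hg0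
    have h1 : block g ∈ X.map block := Subgroup.mem_map_of_mem _ hg
    have h2 : w = b⁻¹ * block g * b'⁻¹ := by rw [he]; group
    rw [h2]
    exact mul_mem (mul_mem (inv_mem (hBX b hb)) h1) (inv_mem (hBX b' hb'))
  have htop : X.map block = ⊤ := eq_top_iff.2 fun h _ => by
    by_cases hc : h.1 1 0 = 0
    · exact hBX h hc
    · obtain ⟨b, b', hb, hb', rfl⟩ := bruhat h hc
      exact mul_mem (mul_mem (hBX b hb) hw) (hBX b' hb')
  rw [← Subgroup.comap_map_eq_self hker, htop, Subgroup.comap_top]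

end Finite

end Cfsg.Agent.QdOver
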